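/-
Two-generated solvable subgroups: elementary criteria.
-/
import Mathlib

set_option autoImplicit false

namespace Cfsg.Agent.PSLSol

variable {G : Type*} [Group G]

/-- `x` and `y` generate a solvable subgroup. -/
def Sol (x y : G) : Prop := Group.IsSolvable (Subgroup.closure ({x, y} : Set G))

theorem sol_map {G' : Type*} [Group G'] (e : G ≃* G') (x y : G) : Sol (e x) (e y) ↔ Sol x y := by
  have h1 : (Subgroup.closure ({x, y} : Set G)).map e.toMonoidHom = Subgroup.closure {e x, e y} := by
    rw [MonoidHom.map_closure, Set.image_pair]; rfl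
  let f := Subgroup.equivMapOfInjective (Subgroup.closure ({x, y} : Set G)) e.toMonoidHom e.injective
  show Group.IsSolvable (Subgroup.closure ({e x, e y} : Set G')) ↔ Group.IsSolvable (Subgroup.closure ({x, y} : Set G))
  rw [← h1]
  exact ⟨fun _ => Group.isSolvable_of_surjective (f := f.symm.toMonoidHom) f.symm.surjective,
    fun _ => Group.isSolvable_of_surjective (f := f.toMonoidHom) f.surjective⟩

theorem card_sol_map {G' : Type*} [Group G'] (e : G ≃* G') (x : G) :
    Nat.card {y : G' // Sol (e x) y} = Nat.card {y : G // Sol x y} :=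
  (Nat.card_congr (e.toEquiv.subtypeEquiv fun y => (sol_map e x y).symm)).symm

theorem sol_of_le {H : Subgroup G} (hH : Group.IsSolvable H) {x y : G} (hx : x ∈ H) (hy : y ∈ H) :
    Sol x y :=
  Group.isSolvable_of_isSolvable_injective
    (f := Subgroup.inclusion ((Subgroup.closure_le H).2 (Set.insert_subset hx (Set.singleton_subset_iff.2 hy))))
    (Subgroup.inclusion_injective _)

theorem sol_congr {x y a b : G} (hx : x ∈ Subgroup.closure ({a, b} : Set G))
    (hy : y ∈ Subgroup.closure ({a, b} : Set G)) (h : Sol a b) : Sol x y :=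
  sol_of_le h hx hy

theorem isSolvable_of_abelian (S : Subgroup G) (hS : ∀ x ∈ S, ∀ y ∈ S, x * y = y * x)
    (hc : ∀ x y : G, x * y * x⁻¹ * y⁻¹ ∈ S) : Group.IsSolvable G := by
  have h1 : derivedSeries G 1 ≤ S := by
    rw [derivedSeries_one, commutator_def, Subgroup.commutator_le]
    exact fun x _ y _ => hc x y
  refine (Group.isSolvable_def G).2 ⟨2, eq_bot_iff.2 ?_⟩
  rw [derivedSeries_succ, Subgroup.commutator_le]
  intro x hx y hy
  rw [Subgroup.mem_bot, commutatorElement_def, hS x (h1 hx) y (h1 hy)]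
  group

/-- An abelian subgroup through `x` normalised by `y`. -/
theorem sol_of_normalized (N : Subgroup G) (hab : ∀ a ∈ N, ∀ b ∈ N, a * b = b * a) {x y : G}
    (hx : x ∈ N) (hy : y ∈ Subgroup.normalizer (N : Set G)) : Sol x y := by
  have hconj : ∀ (i : ℤ) (a : G), a ∈ N → y ^ i * a * (y ^ i)⁻¹ ∈ N := fun i a ha =>
    (Subgroup.mem_normalizer_iff.1 (Subgroup.zpow_mem _ hy i) a).1 ha
  have key : ∀ k ∈ Subgroup.closure ({x, y} : Set G), ∃ (i : ℤ), k * (y ^ i)⁻¹ ∈ N := by
    intro k hk
    induction hk using Subgroup.closure_induction with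
    | mem z hz =>
      rcases hz with rfl | rfl
      · exact ⟨0, by simpa using hx⟩
      · exact ⟨1, by simp⟩
    | one => exact ⟨0, by simp⟩
    | mul a b _ _ ha hb =>
      obtain ⟨i, ha⟩ := ha
      obtain ⟨j, hb⟩ := hb
      refine ⟨i + j, ?_⟩
      have := N.mul_mem ha (hconj i _ hb)
      rw [zpow_add]
      convert this using 1
      group
    | inv a _ ha =>
      obtain ⟨i, ha⟩ := ha
      refine ⟨-i, ?_⟩
      have := hconj (-i) _ (N.inv_mem ha)
      convert this using 1
      group
  refine isSolvable_of_abelian (N.subgroupOf _) (fun a ha b hb => Subtype.ext (hab a.1 ha b.1 hb)) ?_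
  rintro ⟨a, ha⟩ ⟨b, hb⟩
  obtain ⟨i, hi⟩ := key a ha
  obtain ⟨j, hj⟩ := key b hb
  rw [Subgroup.mem_subgroupOf]
  show a * b * a⁻¹ * b⁻¹ ∈ N
  have := N.mul_mem (N.mul_mem (N.mul_mem hi (hconj i _ hj)) (hconj j _ (N.inv_mem hi))) (N.inv_mem hj)
  convert this using 1
  group

variable [Finite G]

theorem sol_of_conj {x y : G} (h : y * x * y⁻¹ = x ∨ y * x * y⁻¹ = x⁻¹) : Sol x y := by
  refine sol_of_normalized (Subgroup.zpowers x) ?_ (Subgroup.mem_zpowers x) ?_
  · rintro _ ⟨i, rfl⟩ _ ⟨j, rfl⟩
    exact ((Commute.refl x).zpow_zpow i j).eq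
  · refine Subgroup.mem_normalizer_fintype fun a ha => ?_
    obtain ⟨i, rfl⟩ := ha
    show y * x ^ i * y⁻¹ ∈ Subgroup.zpowers x
    rw [← conj_zpow]
    refine Subgroup.zpow_mem _ ?_ i
    rcases h with h | h <;> rw [h]
    · exact Subgroup.mem_zpowers x
    · exact Subgroup.inv_mem _ (Subgroup.mem_zpowers x)

theorem sol_of_commute {x y : G} (h : x * y = y * x) : Sol x y :=
  sol_of_conj (Or.inl (by rw [← h, mul_inv_cancel_right]))

theorem sol_of_sq {x y : G} (hx : x * x = 1) (hy : y * y = 1) : Sol x y := by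
  have hxi : x⁻¹ = x := inv_eq_of_mul_eq_one_right hx
  have hyi : y⁻¹ = y := inv_eq_of_mul_eq_one_right hy
  have h : Sol (x * y) x := sol_of_conj (Or.inr (by
    rw [mul_inv_rev, hxi, hyi, ← mul_assoc x x y, hx, one_mul]))
  refine sol_congr (Subgroup.subset_closure (by simp)) ?_ h
  have : y = x⁻¹ * (x * y) := by rw [inv_mul_cancel_left]
  rw [this]
  exact Subgroup.mul_mem _ (Subgroup.inv_mem _ (Subgroup.subset_closure (by simp)))
    (Subgroup.subset_closure (by simp))

/-- The tetrahedral relations. -/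
theorem sol_of_tetra {x y : G} (hx : x * x = 1) (hy : y ^ 3 = 1) (hxy : (x * y) ^ 3 = 1) : Sol x y := by
  set u := y * x * y⁻¹ with hu
  set v := y * u * y⁻¹ with hv
  have hxi : x⁻¹ = x := inv_eq_of_mul_eq_one_right hx
  have huu : u * u = 1 := by
    rw [hu, show y * x * y⁻¹ * (y * x * y⁻¹) = y * (x * x) * y⁻¹ by group, hx]; group
  have hvv : v * v = 1 := by
    rw [hv, show y * u * y⁻¹ * (y * u * y⁻¹) = y * (u * u) * y⁻¹ by group, huu]; group
  have hy3 : y * y * y = 1 := by rw [← hy, pow_succ, pow_two]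
  have hprod : x * u * v = 1 := by
    have h1 : x * u * v * (y * y * y) = (x * y) ^ 3 := by
      rw [hv, hu, pow_succ, pow_two]; group
    rw [hy3, mul_one, hxy] at h1
    exact h1
  have hvy : y * v * y⁻¹ = x := by
    rw [hv, hu, show y * (y * (y * x * y⁻¹) * y⁻¹) * y⁻¹ = (y * y * y) * x * (y * y * y)⁻¹ by group,
      hy3]
    group
  have hveq : v = u * x := by
    have h := eq_inv_of_mul_eq_one_right hprod
    rw [h, mul_inv_rev, hxi, inv_eq_of_mul_eq_one_right huu]
  have hvi : v⁻¹ = v := inv_eq_of_mul_eq_one_right hvv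
  have hcomm : x * u = u * x := by
    rw [← hveq, eq_inv_of_mul_eq_one_left hprod, hvi]
  refine sol_of_normalized (Subgroup.closure ({x, u} : Set G)) ?_ (Subgroup.subset_closure (by simp)) ?_
  · intro a ha b hb
    haveI := Subgroup.isMulCommutative_closure (k := ({x, u} : Set G)) (by
      rintro a (rfl | rfl) b (rfl | rfl) <;> first | rfl | exact hcomm | exact hcomm.symm)
    exact congrArg Subtype.val (IsMulCommutative.is_comm.comm
      (⟨a, ha⟩ : Subgroup.closure ({x, u} : Set G)) ⟨b, hb⟩)
  · refine Subgroup.mem_normalizer_fintype fun a ha => ?_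
    show y * a * y⁻¹ ∈ _
    induction ha using Subgroup.closure_induction with
    | mem z hz =>
      rcases hz with rfl | rfl
      · exact Subgroup.subset_closure (by simp [← hu])
      · show v ∈ _
        rw [hveq]
        exact Subgroup.mul_mem _ (Subgroup.subset_closure (by simp)) (Subgroup.subset_closure (by simp))
    | one => simp
    | mul a b _ _ ha hb =>
      rw [show y * (a * b) * y⁻¹ = (y * a * y⁻¹) * (y * b * y⁻¹) by group]
      exact Subgroup.mul_mem _ ha hb
    | inv a _ ha =>
      rw [show y * a⁻¹ * y⁻¹ = (y * a * y⁻¹)⁻¹ by group]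
      exact Subgroup.inv_mem _ ha

/-- What a cyclic or dihedral group allows for a pair. -/
def DihRel (x y : G) : Prop :=
  x * y = y * x ∨ (x * x = 1 ∧ (y * y = 1 ∨ x * y * (x * y) = 1)) ∨ y * x * y⁻¹ = x⁻¹

omit [Finite G] in
theorem dihRel_dihedral {k : ℕ} (a b : DihedralGroup k) : DihRel a b := by
  rcases a with i | i <;> rcases b with j | j
  · left; simp [add_comm]
  · right; right
    simp
  · right; left
    refine ⟨by simp, Or.inr ?_⟩
    simp
  · right; left
    exact ⟨by simp, Or.inl (by simp)⟩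

omit [Finite G] in
theorem orderOf_dihedral {k : ℕ} (a : DihedralGroup k) : a * a = 1 ∨ orderOf a ∣ k := by
  rcases a with i | i
  · right
    refine orderOf_dvd_of_pow_eq_one ?_
    rw [DihedralGroup.r_pow]
    rw [← DihedralGroup.r_zero]
    simp
  · left; simp

end Cfsg.Agent.PSLSol
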