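/-
The possible two-generated solvable subgroups of PSL_2 over fields of degree a prime over F_2, F_3.
-/
import Cfsg.Agent.Lib.Classical.DicksonSolvable
import Cfsg.Agent.Lib.Classical.DicksonTori
import Cfsg.Agent.Lib.Classical.PSL2Involutions
import Cfsg.Agent.Lib.PSLSol.Basic
import Cfsg.Agent.S0251

set_option autoImplicit false
set_option linter.style.haveILetI false
set_option linter.unusedSectionVars false

namespace Cfsg.Agent.PSLSol

open Matrix PStable Dickson

/-- What the alternating group of degree four allows for a pair. -/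
def TetRel {G : Type*} [Group G] (x y : G) : Prop :=
  x * y = y * x ∨ (x * x = 1 ∧ y ^ 3 = 1 ∧ (x * y) ^ 3 = 1) ∨ (x ^ 3 = 1 ∧ y * y = 1 ∧ (x * y) ^ 3 = 1) ∨
    (x ^ 3 = 1 ∧ y ^ 3 = 1 ∧ (x * y * (x * y) = 1 ∨ x⁻¹ * y * (x⁻¹ * y) = 1))

theorem dihRel_hom {G G' : Type*} [Group G] [Group G'] (f : G →* G') {x y : G} (h : DihRel x y) :
    DihRel (f x) (f y) := by
  rcases h with h | ⟨h1, h | h⟩ | h
  · exact Or.inl (by rw [← map_mul, ← map_mul, h])
  · exact Or.inr (Or.inl ⟨by rw [← map_mul, h1, map_one], Or.inl (by rw [← map_mul, h, map_one])⟩)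
  · exact Or.inr (Or.inl ⟨by rw [← map_mul, h1, map_one],
      Or.inr (by rw [← map_mul, ← map_mul, h, map_one])⟩)
  · exact Or.inr (Or.inr (by rw [← map_mul, ← map_inv, ← map_mul, h, map_inv]))

theorem tetRel_hom {G G' : Type*} [Group G] [Group G'] (f : G →* G') {x y : G} (h : TetRel x y) :
    TetRel (f x) (f y) := by
  rcases h with h | ⟨h1, h2, h3⟩ | ⟨h1, h2, h3⟩ | ⟨h1, h2, h | h⟩
  · exact Or.inl (by rw [← map_mul, ← map_mul, h])
  · exact Or.inr (Or.inl ⟨by rw [← map_mul, h1, map_one], by rw [← map_pow, h2, map_one],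
      by rw [← map_mul, ← map_pow, h3, map_one]⟩)
  · exact Or.inr (Or.inr (Or.inl ⟨by rw [← map_pow, h1, map_one], by rw [← map_mul, h2, map_one],
      by rw [← map_mul, ← map_pow, h3, map_one]⟩))
  · exact Or.inr (Or.inr (Or.inr ⟨by rw [← map_pow, h1, map_one], by rw [← map_pow, h2, map_one],
      Or.inl (by rw [← map_mul, ← map_mul, h, map_one])⟩))
  · exact Or.inr (Or.inr (Or.inr ⟨by rw [← map_pow, h1, map_one], by rw [← map_pow, h2, map_one],
      Or.inr (by rw [← map_inv, ← map_mul, ← map_mul, h, map_one])⟩))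

theorem tetRel_a4_all : ∀ x y : alternatingGroup (Fin 4),
    x * y = y * x ∨ (x * x = 1 ∧ y ^ 3 = 1 ∧ (x * y) ^ 3 = 1) ∨ (x ^ 3 = 1 ∧ y * y = 1 ∧ (x * y) ^ 3 = 1) ∨
    (x ^ 3 = 1 ∧ y ^ 3 = 1 ∧ (x * y * (x * y) = 1 ∨ x⁻¹ * y * (x⁻¹ * y) = 1)) := by
  decide +kernel

/-- A group of order six. -/
theorem dihRel_six {G : Type*} [Group G] (h : Nat.card G = 6) (x y : G) : DihRel x y := by
  haveI : Finite G := Nat.finite_of_card_ne_zero (by omega)
  have hdiv : ∀ a : G, orderOf a = 1 ∨ orderOf a = 2 ∨ orderOf a = 3 ∨ orderOf a = 6 := by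
    intro a
    have h1 : orderOf a ∣ 6 := h ▸ orderOf_dvd_natCard a
    have h2 := Nat.le_of_dvd (by norm_num) h1
    interval_cases orderOf a <;> simp_all
  have hidx : ∀ a : G, orderOf a = 3 → (Subgroup.zpowers a).Normal := fun a ha =>
    Subgroup.normal_of_index_eq_two (by
      have := Subgroup.card_mul_index (Subgroup.zpowers a)
      rw [Nat.card_zpowers, ha, h] at this
      omega)
  have hsix : ∀ a b : G, orderOf a = 6 → a * b = b * a := fun a b ha => by
    have := Subgroup.eq_top_of_card_eq (Subgroup.zpowers a) (by rw [Nat.card_zpowers, ha, h])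
    obtain ⟨i, hi⟩ : b ∈ Subgroup.zpowers a := this ▸ Subgroup.mem_top b
    rw [← hi]
    exact (Commute.self_zpow a i).eq
  have hthree : ∀ a b : G, orderOf a = 3 → orderOf b = 3 → a * b = b * a := fun a b ha hb => by
    haveI := hidx a ha
    suffices hb' : b ∈ Subgroup.zpowers a by
      obtain ⟨i, hi⟩ := hb'
      rw [← hi]
      exact (Commute.self_zpow a i).eq
    have h2 : (Subgroup.zpowers a).index = 2 := by
      have := Subgroup.card_mul_index (Subgroup.zpowers a)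
      rw [Nat.card_zpowers, ha, h] at this
      omega
    have h3 : b * b ∈ Subgroup.zpowers a := Subgroup.mul_self_mem_of_index_two h2 b
    have h4 : b = (b * b) * (b * b) := by
      rw [show b * b * (b * b) = b ^ 3 * b by simp [pow_succ, mul_assoc], ← hb, pow_orderOf_eq_one, one_mul]
    rw [h4]
    exact mul_mem h3 h3
  have hmix : ∀ a b : G, orderOf a = 3 → a * b = b * a ∨ b * a * b⁻¹ = a⁻¹ := fun a b ha => by
    haveI := hidx a ha
    obtain ⟨i, hi⟩ := (hidx a ha).conj_mem a (Subgroup.mem_zpowers a) b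
    simp only at hi
    rw [← zpow_mod_orderOf, ha] at hi
    rcases (show i % 3 = 0 ∨ i % 3 = 1 ∨ i % 3 = 2 by omega) with e | e | e <;>
      rw [show i % ((3 : ℕ) : ℤ) = i % 3 from rfl, e] at hi
    · rw [zpow_zero, eq_comm, conj_eq_one_iff] at hi
      rw [hi, orderOf_one] at ha
      omega
    · left
      rw [zpow_one] at hi
      exact mul_inv_eq_iff_eq_mul.1 hi.symm |>.symm
    · right
      rw [← hi]
      refine eq_inv_of_mul_eq_one_left ?_
      rw [show (2 : ℤ) = ((2 : ℕ) : ℤ) from rfl, zpow_natCast, ← pow_succ, show 2 + 1 = orderOf a by rw [ha], pow_orderOf_eq_one]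
  have hsq : ∀ a : G, orderOf a = 2 → a * a = 1 := fun a ha => by
    rw [← pow_two, ← ha, pow_orderOf_eq_one]
  rcases hdiv x with hx | hx | hx | hx
  · rw [orderOf_eq_one_iff.1 hx]; exact Or.inl (by simp)
  · rcases hdiv y with hy | hy | hy | hy
    · rw [orderOf_eq_one_iff.1 hy]; exact Or.inl (by simp)
    · exact Or.inr (Or.inl ⟨hsq x hx, Or.inl (hsq y hy)⟩)
    · rcases hmix y x hy with e | e
      · exact Or.inl e.symm
      · refine Or.inr (Or.inl ⟨hsq x hx, Or.inr ?_⟩)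
        rw [inv_eq_of_mul_eq_one_right (hsq x hx)] at e
        rw [show x * y * (x * y) = x * y * x * y by group, e, inv_mul_cancel]
    · exact Or.inl (hsix y x hy).symm
  · rcases hmix x y hx with e | e
    · exact Or.inl e
    · exact Or.inr (Or.inr e)
  · exact Or.inl (hsix x y hx)

variable {F : Type*} [Field F] [Finite F]

local notation "SL2" => Matrix.SpecialLinearGroup (Fin 2) F
local notation "M2" => Matrix (Fin 2) (Fin 2) F
local notation "P" => Matrix.ProjectiveSpecialLinearGroup (Fin 2) F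
local notation "prH" => PSL2Inv.pr (F := F)
local notation "zz" => Nat.card (Subgroup.center SL2)

/-- Both elements lie in one Sylow normaliser. -/
def InBorel (p : ℕ) (x y : P) : Prop :=
  ∃ S : Sylow p P, x ∈ Subgroup.normalizer ((S : Subgroup P) : Set P) ∧
    y ∈ Subgroup.normalizer ((S : Subgroup P) : Set P)

theorem four_le_card {p n : ℕ} (hp : p.Prime) (hn : n.Prime) (hF : Nat.card F = p ^ n) :
    4 ≤ Nat.card F := by
  rw [hF]
  calc 4 = 2 ^ 2 := rfl
    _ ≤ p ^ 2 := Nat.pow_le_pow_left hp.two_le 2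
    _ ≤ p ^ n := Nat.pow_le_pow_right hp.pos hn.two_le

/-- The list of solvable two-generated subgroups. -/
theorem sol_cases (p : ℕ) [hp : Fact p.Prime] [CharP F p] (hp23 : p = 2 ∨ p = 3) {n : ℕ} (hn : n.Prime)
    (hF : Nat.card F = p ^ n) {x y : P} (h : Sol x y) :
    InBorel p x y ∨ DihRel x y ∨
      ∃ (H : Subgroup P) (K : Type) (_ : Field K) (_ : Fintype K), x ∈ H ∧ y ∈ H ∧ Fintype.card K = p ∧
        (Nonempty (H ≃* Matrix.ProjectiveSpecialLinearGroup (Fin 2) K) ∨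
          Nonempty (H ≃* Matrix.ProjGenLinGroup (Fin 2) K)) := by
  set H := Subgroup.closure ({x, y} : Set P) with hH
  have hx : x ∈ H := Subgroup.subset_closure (by simp)
  have hy : y ∈ H := Subgroup.subset_closure (by simp)
  haveI hs : Group.IsSolvable H := h
  have hne : H ≠ ⊤ := fun e => by
    refine not_isSolvable_psl (four_le_card hp.out hn hF) ?_
    exact Group.isSolvable_of_surjective
      (f := ((MulEquiv.subgroupCongr e).trans Subgroup.topEquiv).toMonoidHom)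
      ((MulEquiv.subgroupCongr e).trans Subgroup.topEquiv).surjective
  rcases classify_proper' p hne with ⟨k, -, ⟨hc, -⟩ | ⟨⟨e⟩⟩⟩ | ⟨S, hS⟩ | ⟨h2, h3, -⟩ | ⟨h2, h3, -⟩ |
    ⟨-, -, ⟨e⟩⟩ | ⟨K, i1, i2, m, hm2, hm, -, hc⟩
  · refine Or.inr (Or.inl (Or.inl ?_))
    exact congrArg Subtype.val (IsMulCommutative.is_comm.comm (⟨x, hx⟩ : H) ⟨y, hy⟩)
  · refine Or.inr (Or.inl ?_)
    have h1 := dihRel_hom (H.subtype.comp e.symm.toMonoidHom) (dihRel_dihedral (e ⟨x, hx⟩) (e ⟨y, hy⟩))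
    simpa using h1
  · exact Or.inl ⟨S, hS hx, hS hy⟩
  · omega
  · omega
  · exact absurd (Group.isSolvable_of_surjective (f := e.toMonoidHom) e.surjective) not_isSolvable_a5
  · refine Or.inr (Or.inr ⟨H, K, i1, i2, hx, hy, ?_, hc⟩)
    rw [hF] at hm
    have hd : Fintype.card K ∣ p ^ n := hm ▸ dvd_pow_self _ (by omega)
    obtain ⟨j, -, hj⟩ := (Nat.dvd_prime_pow hp.out).1 hd
    rw [hj, ← pow_mul] at hm
    have hjm : j * m = n := Nat.pow_right_injective hp.out.two_le hm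
    rcases hn.eq_one_or_self_of_dvd j ⟨m, hjm.symm⟩ with rfl | rfl
    · rw [hj, pow_one]
    · have : m = 1 := Nat.eq_of_mul_eq_mul_left hn.pos (by rw [hjm, mul_one])
      omega

theorem sol_two [CharP F 2] {n : ℕ} (hn : n.Prime) (hF : Nat.card F = 2 ^ n) {x y : P} (h : Sol x y) :
    InBorel 2 x y ∨ DihRel x y := by
  haveI : Fact (Nat.Prime 2) := ⟨Nat.prime_two⟩
  rcases sol_cases 2 (Or.inl rfl) hn hF h with h | h | ⟨H, K, _, _, hx, hy, hK, hc⟩
  · exact Or.inl h
  · exact Or.inr h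
  right
  have hK' : Nat.card K = 2 := by rw [Nat.card_eq_fintype_card, hK]
  have h6 : Nat.card H = 6 := by
    rcases hc with ⟨⟨e⟩⟩ | ⟨⟨e⟩⟩ <;> rw [Nat.card_congr e.toEquiv]
    · have := gcd_mul_card_psl (K := K)
      rw [hK'] at this
      norm_num at this
      omega
    · rw [card_pgl2, hK']; norm_num
  simpa using dihRel_hom H.subtype (dihRel_six h6 ⟨x, hx⟩ ⟨y, hy⟩)

theorem pow_mod_eight {n : ℕ} (hn : Odd n) : 3 ^ n % 8 = 3 := by
  obtain ⟨k, rfl⟩ := hn
  rw [pow_succ, pow_mul, Nat.mul_mod, Nat.pow_mod]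
  norm_num

theorem sol_three [CharP F 3] {n : ℕ} (hn : n.Prime) (hodd : Odd n) (hF : Nat.card F = 3 ^ n) {x y : P}
    (h : Sol x y) : InBorel 3 x y ∨ DihRel x y ∨ TetRel x y := by
  haveI : Fact (Nat.Prime 3) := ⟨Nat.prime_three⟩
  rcases sol_cases 3 (Or.inr rfl) hn hF h with h | h | ⟨H, K, _, _, hx, hy, hK, hc⟩
  · exact Or.inl h
  · exact Or.inr (Or.inl h)
  right; right
  rcases hc with ⟨⟨e⟩⟩ | ⟨⟨e⟩⟩
  · obtain ⟨e'⟩ := S0251.result hK
    let e2 := e.trans e'
    have := tetRel_hom (H.subtype.comp e2.symm.toMonoidHom) (tetRel_a4_all (e2 ⟨x, hx⟩) (e2 ⟨y, hy⟩))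
    simpa using this
  · exfalso
    have h24 : Nat.card H = 24 := by
      rw [Nat.card_congr e.toEquiv, card_pgl2, Nat.card_eq_fintype_card, hK]; norm_num
    obtain ⟨c, hc⟩ := h24 ▸ H.card_subgroup_dvd_card
    have h8 := pow_mod_eight hodd
    rw [← hF] at h8
    have hq : 0 < Nat.card F := Nat.card_pos
    have h1 := zz_mul_card (F := F)
    rw [card_center, Nat.gcd_eq_left (by omega : 2 ∣ Nat.card F - 1), hc] at h1
    obtain ⟨t, ht⟩ : ∃ t, Nat.card F = 8 * t + 3 := ⟨Nat.card F / 8, by omega⟩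
    rw [ht, show (8 * t + 3) ^ 2 - 1 = 16 * (4 * t ^ 2 + 3 * t) + 8 from
      (Nat.sub_eq_iff_eq_add (Nat.one_le_pow _ _ (by omega))).2 (by ring),
      show (8 * t + 3) * (16 * (4 * t ^ 2 + 3 * t) + 8) =
        16 * ((8 * t + 3) * (4 * t ^ 2 + 3 * t) + 4 * t + 1) + 8 by ring] at h1
    omega

/-! ### Fixed points -/

/-- The quadratic form vanishing on the fixed points. -/
def Qf (h : SL2) (a c : F) : F :=
  (h : M2) 1 0 * a ^ 2 + ((h : M2) 1 1 - (h : M2) 0 0) * (a * c) - (h : M2) 0 1 * c ^ 2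

theorem exists_fixed (p : ℕ) [Fact p.Prime] [CharP F p] (S : Sylow p P) :
    ∃ a c : F, ¬ (a = 0 ∧ c = 0) ∧
      ∀ h : SL2, prH h ∈ Subgroup.normalizer ((S : Subgroup P) : Set P) → Qf h a c = 0 := by
  classical
  have hsat : Saturated (borel (⊤ : Subgroup SL2)) := fun x hx => ⟨trivial, (isSc_iff.1 hx).2.1⟩
  obtain ⟨S₀, hS₀⟩ := exists_sylow_normalizer (p := p) (H := borel (⊤ : Subgroup SL2)) fun x hx => hx.2
  have hN : Subgroup.normalizer ((S₀ : Subgroup P) : Set P) = (borel (⊤ : Subgroup SL2)).map prH := by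
    refine (Subgroup.eq_of_le_of_card_ge hS₀ ?_).symm
    refine Nat.le_of_mul_le_mul_left ?_ (Nat.card_pos (α := Subgroup.center SL2))
    rw [card_normalizer_sylow p S₀, ← card_map hsat]
    have h1 := card_cosets (⊤ : Subgroup SL2)
    rw [Subgroup.card_top, card_sl2_eq,
      show Nat.card F ^ 2 - 1 = (Nat.card F + 1) * (Nat.card F - 1) by simpa using Nat.sq_sub_sq (Nat.card F) 1] at h1
    have hle : (points (⊤ : Subgroup SL2)).ncard ≤ Nat.card F := by
      rw [← Set.ncard_univ]; exact Set.ncard_le_ncard (Set.subset_univ _) (Set.toFinite _)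
    refine Nat.le_of_mul_le_mul_left ?_ (show 0 < Nat.card F + 1 by omega)
    calc (Nat.card F + 1) * (Nat.card F * (Nat.card F - 1))
        = Nat.card F * ((Nat.card F + 1) * (Nat.card F - 1)) := by ring
      _ = ((points (⊤ : Subgroup SL2)).ncard + 1) * Nat.card (borel (⊤ : Subgroup SL2)) := h1
      _ ≤ _ := Nat.mul_le_mul_right _ (by omega)
  obtain ⟨g, rfl⟩ := MulAction.exists_smul_eq P S₀ S
  obtain ⟨G, rfl⟩ := PSL2Inv.pr_surjective g
  refine ⟨(G : M2) 0 0, (G : M2) 1 0, fun h0 => ?_, fun h hh => ?_⟩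
  · have := det_one G
    rw [h0.1, h0.2] at this
    simp at this
  have h1 : (prH G)⁻¹ * prH h * prH G ∈ Subgroup.normalizer ((S₀ : Subgroup P) : Set P) := by
    rw [Subgroup.mem_normalizer_iff] at hh ⊢
    intro z
    have h2 := hh (prH G * z * (prH G)⁻¹)
    have hmem : ∀ u : P, prH G * u * (prH G)⁻¹ ∈ ((prH G • S₀ : Sylow p P) : Subgroup P) ↔ u ∈ (S₀ : Subgroup P) := by
      intro u
      rw [Sylow.coe_subgroup_smul, Subgroup.mem_pointwise_smul_iff_inv_smul_mem]
      simp [MulAut.conj, mul_assoc]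
    rw [hmem] at h2
    rw [h2, ← hmem]
    rw [show prH G * ((prH G)⁻¹ * prH h * prH G * z * ((prH G)⁻¹ * prH h * prH G)⁻¹) * (prH G)⁻¹ =
      prH h * (prH G * z * (prH G)⁻¹) * (prH h)⁻¹ by group]
  rw [hN, ← map_inv, ← map_mul, ← map_mul] at h1
  obtain ⟨b, hb, hbe⟩ := h1
  have h10 : ((G⁻¹ * h * G : SL2) : M2) 1 0 = 0 := by
    rcases PSL2Inv.pr_eq_iff.1 hbe with e | e <;> rw [e]
    · exact hb.2
    · show ((SL2Inv.negOne : SL2).1 * (b : M2)) 1 0 = 0
      rw [SL2Inv.coe_negOne]; simp [hb.2]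
  have h10' : (Matrix.adjugate (G : M2) * (h : M2) * (G : M2)) 1 0 = 0 := h10
  rw [Matrix.adjugate_fin_two] at h10'
  simp [Matrix.mul_apply, Matrix.vecMul, dotProduct, Fin.sum_univ_two] at h10'
  rw [Qf]
  linear_combination h10'

theorem orderOf_dvd_of_inBorel (p : ℕ) [Fact p.Prime] [CharP F p] {x y : P} (h : InBorel p x y) :
    orderOf x ∣ Nat.card F * (Nat.card F - 1) := by
  obtain ⟨S, hx, -⟩ := h
  rw [← card_normalizer_sylow p S]
  exact dvd_mul_of_dvd_right (Subgroup.orderOf_dvd_natCard _ hx) _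

theorem sol_upper (p : ℕ) [Fact p.Prime] [CharP F p] {X Y : SL2} (hX : (X : M2) 1 0 = 0)
    (hY : (Y : M2) 1 0 = 0) : Sol (prH X) (prH Y) := by
  obtain ⟨S, hS⟩ := exists_sylow_normalizer (p := p) (H := borel (⊤ : Subgroup SL2)) fun x hx => hx.2
  obtain ⟨hab, hcm⟩ := sylow_facts p S
  refine sol_of_le (H := Subgroup.normalizer ((S : Subgroup P) : Set P)) ?_
    (hS (Subgroup.mem_map_of_mem _ ⟨trivial, hX⟩)) (hS (Subgroup.mem_map_of_mem _ ⟨trivial, hY⟩))
  refine isSolvable_of_abelian ((S : Subgroup P).subgroupOf _)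
    (fun a ha b hb => Subtype.ext (hab a ha b hb)) fun a b => ?_
  rw [Subgroup.mem_subgroupOf]
  exact hcm a a.2 b b.2

theorem sol_lower (p : ℕ) [Fact p.Prime] [CharP F p] {X Y : SL2} (hX : (X : M2) 0 1 = 0)
    (hY : (Y : M2) 0 1 = 0) : Sol (prH X) (prH Y) := by
  rw [← sol_map (MulAut.conj (prH (SL2Inv.w : SL2)))]
  simp only [MulAut.conj_apply]
  rw [← map_inv, ← map_mul, ← map_mul, ← map_mul, ← map_mul]
  refine sol_upper p ?_ ?_
  · show ((SL2Inv.w : SL2).1 * (X : M2) * Matrix.adjugate (SL2Inv.w : SL2).1) 1 0 = 0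
    simp [SL2Inv.w, Matrix.adjugate_fin_two, Matrix.mul_apply, Matrix.vecMul, dotProduct, Fin.sum_univ_two, hX]
  · show ((SL2Inv.w : SL2).1 * (Y : M2) * Matrix.adjugate (SL2Inv.w : SL2).1) 1 0 = 0
    simp [SL2Inv.w, Matrix.adjugate_fin_two, Matrix.mul_apply, Matrix.vecMul, dotProduct, Fin.sum_univ_two, hY]

/-- An automorphism given by conjugation in `GL_2`. -/
theorem exists_aut' (g : GL (Fin 2) F) : ∃ φ : P ≃* P, ∀ X : SL2, φ (prH X) = prH (conjGL g X) := by
  have hk : Subgroup.center SL2 ≤ ((prH).comp (conjGL g)).ker := fun x hx => by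
    rw [center_eq] at hx
    exact pr_eq_one.2 (isSc_conjGL.2 hx.2)
  let φ : P →* P := QuotientGroup.lift _ ((prH).comp (conjGL g)) hk
  have hφ : Function.Injective φ := by
    rw [injective_iff_map_eq_one]
    intro y hy
    obtain ⟨x, rfl⟩ := QuotientGroup.mk_surjective y
    exact pr_eq_one.2 (isSc_conjGL.1 (pr_eq_one.1 hy))
  exact ⟨MulEquiv.ofBijective φ ⟨hφ, Finite.injective_iff_surjective.1 hφ⟩, fun X => rfl⟩

theorem card_pre (Q : P → Prop) :
    Nat.card {Y : SL2 // Q (prH Y)} = zz * Nat.card {y : P // Q y} := by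
  rw [← Nat.card_prod]
  let s := Function.surjInv (PSL2Inv.pr_surjective (F := F))
  have hs : ∀ y, prH (s y) = y := Function.surjInv_eq _
  have hker : ∀ z : SL2, z ∈ Subgroup.center SL2 ↔ prH z = 1 := fun z => (QuotientGroup.eq_one_iff z).symm
  refine Nat.card_congr ?_
  exact
    { toFun := fun Y => (⟨Y.1 * (s (prH Y.1))⁻¹,
        (hker _).2 (by rw [map_mul, map_inv, hs, mul_inv_cancel])⟩, ⟨prH Y.1, Y.2⟩)
      invFun := fun zy => ⟨zy.1.1 * s zy.2.1, by rw [map_mul, (hker _).1 zy.1.2, one_mul, hs]; exact zy.2.2⟩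
      left_inv := fun Y => Subtype.ext (inv_mul_cancel_right _ _)
      right_inv := fun zy => by
        have : prH (zy.1.1 * s zy.2.1) = zy.2.1 := by rw [map_mul, (hker _).1 zy.1.2, one_mul, hs]
        refine Prod.ext (Subtype.ext ?_) (Subtype.ext this)
        simp only [this, mul_inv_cancel_right] }

end Cfsg.Agent.PSLSol
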