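/-
Solubilizers in PSL_2(3^n), n an odd prime.
-/
import Cfsg.Agent.Lib.PSLSol.Cases

set_option autoImplicit false
set_option linter.style.haveILetI false
set_option linter.unusedSectionVars false

namespace Cfsg.Agent.PSLSol

open Matrix PStable Dickson

variable {F : Type*} [Field F] [Finite F]

local notation "SL2" => Matrix.SpecialLinearGroup (Fin 2) F
local notation "M2" => Matrix (Fin 2) (Fin 2) F
local notation "P" => Matrix.ProjectiveSpecialLinearGroup (Fin 2) F
local notation "prH" => PSL2Inv.pr (F := F)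

/-! ### Reading the group off the matrices -/

theorem pr_comm {X Y : SL2} (h : prH X * prH Y = prH Y * prH X) :
    (X : M2) * (Y : M2) = (Y : M2) * (X : M2) ∨ (X : M2) * (Y : M2) = -((Y : M2) * (X : M2)) := by
  rw [← map_mul, ← map_mul] at h
  rcases PSL2Inv.pr_eq_iff.1 h with e | e
  · exact Or.inl (congrArg Subtype.val e.symm)
  · right
    have h1 : (Y : M2) * (X : M2) = (SL2Inv.negOne : SL2).1 * ((X : M2) * (Y : M2)) := congrArg Subtype.val e
    rw [SL2Inv.coe_negOne, neg_one_mul] at h1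
    rw [h1, neg_neg]

theorem pr_inverts {X Y : SL2} (h : prH Y * prH X * (prH Y)⁻¹ = (prH X)⁻¹) :
    (Y : M2) * (X : M2) = Matrix.adjugate (X : M2) * (Y : M2) ∨
      (Y : M2) * (X : M2) = -(Matrix.adjugate (X : M2) * (Y : M2)) := by
  rw [mul_inv_eq_iff_eq_mul, ← map_mul, ← map_inv, ← map_mul] at h
  rcases PSL2Inv.pr_eq_iff.1 h with e | e
  · exact Or.inl (congrArg Subtype.val e.symm)
  · right
    have h1 : Matrix.adjugate (X : M2) * (Y : M2) = (SL2Inv.negOne : SL2).1 * ((Y : M2) * (X : M2)) :=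
      congrArg Subtype.val e
    rw [SL2Inv.coe_negOne, neg_one_mul] at h1
    rw [h1, neg_neg]

theorem trace_of_sq {Y : SL2} (h : prH Y * prH Y = 1) : (Y : M2).trace = 0 ∨ IsSc Y := by
  by_cases ht : (Y : M2).trace = 0
  · exact Or.inl ht
  right
  rw [← map_mul] at h
  obtain ⟨c, hc⟩ := pr_eq_one.1 h
  replace hc : (Y : M2) * (Y : M2) = c • (1 : M2) := hc
  rw [sq_val, sub_eq_iff_eq_add] at hc
  refine ⟨(c + 1) / (Y : M2).trace, ?_⟩
  rw [div_eq_inv_mul, ← smul_smul, add_smul, one_smul, ← hc, smul_smul, inv_mul_cancel₀ ht, one_smul]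

theorem cube_val (Y : SL2) : (Y : M2) * (Y : M2) * (Y : M2) =
    ((Y : M2).trace ^ 2 - 1) • (Y : M2) - (Y : M2).trace • (1 : M2) := by
  rw [sq_val, sub_mul, one_mul, smul_mul_assoc, sq_val, smul_sub, smul_smul, sub_smul, one_smul, pow_two]
  abel

theorem trace_of_cube {Y : SL2} (h : prH Y ^ 3 = 1) : (Y : M2).trace ^ 2 = 1 ∨ IsSc Y := by
  by_cases ht : (Y : M2).trace ^ 2 = 1
  · exact Or.inl ht
  right
  rw [← map_pow] at h
  obtain ⟨c, hc⟩ := pr_eq_one.1 h
  replace hc : (Y : M2) ^ 3 = c • (1 : M2) := (Matrix.SpecialLinearGroup.coe_pow Y 3).symm.trans hc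
  rw [pow_succ, pow_two, cube_val, sub_eq_iff_eq_add, ← add_smul] at hc
  refine ⟨(c + (Y : M2).trace) / ((Y : M2).trace ^ 2 - 1), ?_⟩
  rw [div_eq_inv_mul, ← smul_smul, ← hc, smul_smul, inv_mul_cancel₀ (sub_ne_zero.2 ht), one_smul]

theorem cube_of_trace {Y : SL2} (h : (Y : M2).trace ^ 2 = 1) : prH Y ^ 3 = 1 := by
  rw [← map_pow]
  refine pr_eq_one.2 ⟨-(Y : M2).trace, ?_⟩
  refine (Matrix.SpecialLinearGroup.coe_pow Y 3).trans ?_
  rw [pow_succ, pow_two, cube_val, h, sub_self, zero_smul, zero_sub, neg_smul]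

theorem sq_of_trace {Y : SL2} (h : (Y : M2).trace = 0) : prH Y * prH Y = 1 := PSL2Inv.pr_mul_self h

/-! ### Counting in coordinates -/

/-- Upper triangular matrices. -/
def upperEquiv : {Y : SL2 // (Y : M2) 1 0 = 0} ≃ Fˣ × F where
  toFun Y := (Units.mk0 ((Y.1 : M2) 0 0) (fun e => by
    have := det_one Y.1
    rw [e, Y.2] at this
    simp at this), (Y.1 : M2) 0 1)
  invFun ab := ⟨⟨!![(ab.1 : F), ab.2; 0, (ab.1 : F)⁻¹], by simp [Matrix.det_fin_two]⟩, by simp⟩
  left_inv Y := by
    have hd := det_one Y.1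
    have h0 := Y.2
    rw [h0, mul_zero, sub_zero] at hd
    refine Subtype.ext (Subtype.ext (ext2 (by simp) (by simp) (by simp [h0]) ?_))
    simp only [Units.val_mk0]
    simpa using (inv_eq_of_mul_eq_one_right hd)
  right_inv ab := by ext <;> simp

/-- Matrices with a non-zero lower left entry. -/
def lowerEquiv : {Y : SL2 // (Y : M2) 1 0 ≠ 0} ≃ Fˣ × F × F where
  toFun Y := (Units.mk0 _ Y.2, (Y.1 : M2) 0 0, (Y.1 : M2) 1 1)
  invFun t := ⟨⟨!![t.2.1, (t.2.1 * t.2.2 - 1) / (t.1 : F); (t.1 : F), t.2.2], by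
    rw [Matrix.det_fin_two_of, div_mul_cancel₀ _ t.1.ne_zero]; ring⟩, by simp⟩
  left_inv Y := by
    have hd := det_one Y.1
    refine Subtype.ext (Subtype.ext (ext2 (by simp) ?_ (by simp) (by simp)))
    simp only [Units.val_mk0]
    show ((Y.1 : M2) 0 0 * (Y.1 : M2) 1 1 - 1) / (Y.1 : M2) 1 0 = (Y.1 : M2) 0 1
    rw [div_eq_iff Y.2]
    linear_combination hd
  right_inv t := by ext <;> simp

theorem card_upper_or (Q : SL2 → Prop) :
    Nat.card {Y : SL2 // (Y : M2) 1 0 = 0 ∨ Q Y} =
      (Nat.card F - 1) * Nat.card F + Nat.card {t : Fˣ × F × F // Q (lowerEquiv.symm t).1} := by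
  classical
  haveI := Fintype.ofFinite F
  rw [← Nat.card_units, ← Nat.card_prod, ← Nat.card_congr (upperEquiv (F := F)),
    ← Nat.card_congr (lowerEquiv.subtypeEquiv (p := fun Y => Q Y.1) (fun Y => by simp)), ← Nat.card_sum]
  exact Nat.card_congr
    { toFun := fun Y => if h : (Y.1 : M2) 1 0 = 0 then Sum.inl ⟨Y.1, h⟩
        else Sum.inr ⟨⟨Y.1, h⟩, Y.2.resolve_left h⟩
      invFun := fun z => z.elim (fun Y => ⟨Y.1, Or.inl Y.2⟩) fun Y => ⟨Y.1.1, Or.inr Y.2⟩
      left_inv := fun Y => by by_cases h : (Y.1 : M2) 1 0 = 0 <;> simp [h]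
      right_inv := fun z => by
        rcases z with ⟨Y, h⟩ | ⟨⟨Y, h⟩, hQ⟩ <;> simp [h] }

variable [CharP F 3] {n : ℕ}

theorem three_eq : (3 : F) = 0 := by simpa using CharP.cast_eq_zero F 3

theorem two_ne : (2 : F) ≠ 0 := fun h => one_ne_zero (α := F) (by linear_combination three_eq (F := F) - h)

theorem odd_card (hF : Nat.card F = 3 ^ n) : Nat.card F % 2 = 1 :=
  Nat.odd_iff.1 (hF ▸ (Odd.pow (by decide)))

theorem not_isSquare_neg_one (hodd : Odd n) (hF : Nat.card F = 3 ^ n) : ¬ IsSquare (-1 : F) := by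
  haveI := Fintype.ofFinite F
  rw [FiniteField.isSquare_neg_one_iff, ← Nat.card_eq_fintype_card, hF]
  have := pow_mod_eight hodd
  omega

theorem two_card_center (hF : Nat.card F = 3 ^ n) : Nat.card (Subgroup.center SL2) = 2 := by
  rw [card_center]
  refine Nat.gcd_eq_left ?_
  have := odd_card hF
  omega

theorem two_mul_card_sol (hF : Nat.card F = 3 ^ n) {x : P} {Q : SL2 → Prop}
    (h : ∀ Y : SL2, Sol x (prH Y) ↔ Q Y) :
    2 * Nat.card {y : P // Sol x y} = Nat.card {Y : SL2 // Q Y} := by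
  have h1 := card_pre (F := F) (fun y => Sol x y)
  rw [two_card_center hF] at h1
  rw [← h1]
  exact Nat.card_congr (Equiv.subtypeEquivRight h)

/-! ### Elements of order three -/

theorem order_upp : orderOf (prH (upp 1)) = 3 := by
  haveI : Fact (Nat.Prime 3) := ⟨Nat.prime_three⟩
  refine orderOf_eq_prime (by rw [← map_pow, upp_pow_char, map_one]) fun h => ?_
  exact not_isSc_upp one_ne_zero (pr_eq_one.1 h)

theorem sol_upp_iff (hn : n.Prime) (hodd : Odd n) (hF : Nat.card F = 3 ^ n) (Y : SL2) :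
    Sol (prH (upp 1)) (prH Y) ↔
      (Y : M2) 1 0 = 0 ∨ ((Y : M2) 1 0 ^ 2 = 1 ∧ (Y : M2).trace ^ 3 = (Y : M2).trace) := by
  haveI : Fact (Nat.Prime 3) := ⟨Nat.prime_three⟩
  have hord := order_upp (F := F)
  have hx3 : prH (upp 1) ^ 3 = 1 := hord ▸ pow_orderOf_eq_one _
  have hx2 : prH (upp 1) * prH (upp 1) ≠ 1 := fun h => by
    have := orderOf_dvd_of_pow_eq_one ((pow_two _).trans h)
    rw [hord] at this
    norm_num at this
  have htr : ∀ b : F, ((upp b * Y : SL2) : M2).trace = (Y : M2).trace + b * (Y : M2) 1 0 := fun b => by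
    show ((upp b : SL2).1 * (Y : M2)).trace = _
    rw [upp_val]
    simp [Matrix.trace_fin_two, Matrix.mul_apply, Matrix.vecMul, dotProduct, Fin.sum_univ_two]
    ring
  have hsc : ∀ b : F, IsSc (upp b * Y : SL2) → (Y : M2) 1 0 = 0 := fun b h => by
    have : ((upp b : SL2).1 * (Y : M2)) 1 0 = 0 := (isSc_iff.1 h).2.1
    rw [upp_val] at this
    simpa [Matrix.mul_apply, Matrix.vecMul, dotProduct, Fin.sum_univ_two] using this
  have hsY : IsSc Y → (Y : M2) 1 0 = 0 := fun h => (isSc_iff.1 h).2.1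
  have hcomm : prH (upp 1) * prH Y = prH Y * prH (upp 1) → (Y : M2) 1 0 = 0 := fun h => by
    rcases pr_comm h with e | e
    · have e1 := congrFun (congrFun e 0) 0
      simp [upp_val, Matrix.mul_apply, Matrix.vecMul, dotProduct, Fin.sum_univ_two] at e1
      exact e1
    · have e1 := congrFun (congrFun e 1) 0
      simp [upp_val, Matrix.mul_apply, Matrix.vecMul, dotProduct, Fin.sum_univ_two] at e1
      exact (mul_eq_zero.1 (show (2 : F) * (Y : M2) 1 0 = 0 by linear_combination e1)).resolve_left two_ne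
  constructor
  · intro h
    rcases sol_three hn hodd hF h with ⟨S, hx, hy⟩ | hD | hT
    · obtain ⟨a, c, hac, hfix⟩ := exists_fixed 3 S
      have h1 := hfix _ hx
      have h2 := hfix _ hy
      simp [Qf, upp_val] at h1
      subst h1
      have ha : a ≠ 0 := fun e => hac ⟨e, rfl⟩
      simp [Qf] at h2
      exact Or.inl (h2.resolve_right ha)
    · left
      rcases hD with e | ⟨e, -⟩ | e
      · exact hcomm e
      · exact absurd e hx2
      · rcases pr_inverts e with e | e
        · have e1 := congrFun (congrFun e 0) 0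
          simp [upp_val, Matrix.adjugate_fin_two, Matrix.mul_apply, Matrix.vecMul, dotProduct, Fin.sum_univ_two] at e1
          exact e1
        · have e1 := congrFun (congrFun e 1) 0
          simp [upp_val, Matrix.adjugate_fin_two, Matrix.mul_apply, Matrix.vecMul, dotProduct, Fin.sum_univ_two] at e1
          exact (mul_eq_zero.1 (show (2 : F) * (Y : M2) 1 0 = 0 by linear_combination e1)).resolve_left two_ne
    · rcases hT with e | ⟨e, -, -⟩ | ⟨-, e1, e2⟩ | ⟨-, e1, e2⟩
      · exact Or.inl (hcomm e)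
      · exact absurd e hx2
      · rw [← map_mul] at e2
        rcases trace_of_sq e1 with s0 | s0
        · rcases trace_of_cube e2 with s1 | s1
          · rw [htr, s0] at s1
            exact Or.inr ⟨by linear_combination s1, by rw [s0]; ring⟩
          · exact Or.inl (hsc 1 s1)
        · exact Or.inl (hsY s0)
      · rcases trace_of_cube e1 with s0 | s0
        · have key : ∀ b : F, b * b = 1 → prH (upp b * Y) * prH (upp b * Y) = 1 →
              (Y : M2) 1 0 = 0 ∨ ((Y : M2) 1 0 ^ 2 = 1 ∧ (Y : M2).trace ^ 3 = (Y : M2).trace) := by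
            intro b hb eb
            rcases trace_of_sq eb with s1 | s1
            · rw [htr] at s1
              refine Or.inr ⟨?_, by linear_combination (Y : M2).trace * s0⟩
              linear_combination s0 - ((Y : M2).trace - b * (Y : M2) 1 0) * s1 - ((Y : M2) 1 0) ^ 2 * hb
            · exact Or.inl (hsc b s1)
          rcases e2 with e2 | e2
          · rw [← map_mul] at e2
            exact key 1 (one_mul 1) e2
          · rw [← map_inv, ← map_mul, upp_inv] at e2
            exact key (-1) (by ring) e2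
        · exact Or.inl (hsY s0)
  · rintro (h | ⟨hc, hs⟩)
    · exact sol_upper 3 (by simp [upp_val]) h
    by_cases s0 : (Y : M2).trace = 0
    · have h1 := sol_of_tetra (sq_of_trace s0) hx3 (by
        rw [← map_mul]
        refine cube_of_trace ?_
        rw [show ((Y * upp 1 : SL2) : M2).trace = ((upp 1 * Y : SL2) : M2).trace from Matrix.trace_mul_comm _ _, htr, s0]
        linear_combination hc)
      exact sol_congr (Subgroup.subset_closure (by simp)) (Subgroup.subset_closure (by simp)) h1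
    have s1 : (Y : M2).trace ^ 2 = 1 := mul_left_cancel₀ s0 (by linear_combination hs)
    have key : ∀ b : F, b * b = 1 → (Y : M2).trace + b * (Y : M2) 1 0 = 0 →
        Sol (prH (upp b)) (prH Y) := by
      intro b hb e
      have h1 := sol_of_tetra (sq_of_trace ((htr b).trans e)) (cube_of_trace s1) (by
        rw [← map_mul]
        refine cube_of_trace ?_
        have h2 : ((upp b * Y * Y : SL2) : M2).trace = -2 := by
          show ((upp b : SL2).1 * (Y : M2) * (Y : M2)).trace = -2
          rw [mul_assoc, sq_val, mul_sub, mul_smul_comm, mul_one, Matrix.trace_sub, Matrix.trace_smul,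
            show ((upp b : SL2).1 * (Y : M2)).trace = 0 from (htr b).trans e]
          simp [upp_val, Matrix.trace_fin_two]
          norm_num
        rw [h2]
        linear_combination three_eq (F := F))
      refine sol_congr ?_ (Subgroup.subset_closure (by simp)) h1
      rw [show prH (upp b) = prH (upp b * Y) * (prH Y)⁻¹ by rw [map_mul, mul_inv_cancel_right]]
      exact Subgroup.mul_mem _ (Subgroup.subset_closure (by simp))
        (Subgroup.inv_mem _ (Subgroup.subset_closure (by simp)))
    rcases sq_eq_sq_iff_eq_or_eq_neg.1 (s1.trans hc.symm) with e | e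
    · have h1 := key (-1) (by ring) (by rw [e]; ring)
      rw [← upp_inv, map_inv] at h1
      refine sol_congr ?_ (Subgroup.subset_closure (by simp)) h1
      rw [show prH (upp 1) = ((prH (upp 1))⁻¹)⁻¹ by rw [inv_inv]]
      exact Subgroup.inv_mem _ (Subgroup.subset_closure (by simp))
    · exact key 1 (one_mul 1) (by rw [e]; ring)

theorem two_mul_card_sol_upp (hn : n.Prime) (hodd : Odd n) (hF : Nat.card F = 3 ^ n) :
    2 * Nat.card {y : P // Sol (prH (upp 1)) y} = Nat.card F * (Nat.card F + 5) := by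
  classical
  haveI := Fintype.ofFinite F
  rw [two_mul_card_sol hF (sol_upp_iff hn hodd hF), card_upper_or]
  let e : {t : Fˣ × F × F // ((lowerEquiv.symm t).1 : M2) 1 0 ^ 2 = 1 ∧
      ((lowerEquiv.symm t).1 : M2).trace ^ 3 = ((lowerEquiv.symm t).1 : M2).trace} ≃
      ({c : F // c ^ 2 = 1} × F) × {s : F // s ^ 3 = s} :=
    { toFun := fun t => ((⟨(t.1.1 : F), by simpa [lowerEquiv] using t.2.1⟩, t.1.2.1),
        ⟨t.1.2.1 + t.1.2.2, by simpa [lowerEquiv, Matrix.trace_fin_two] using t.2.2⟩)
      invFun := fun z => ⟨(Units.mk0 z.1.1.1 (fun e => by have h0 := z.1.1.2; rw [e] at h0; simp at h0),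
          z.1.2, z.2.1 - z.1.2), by
        constructor
        · simpa [lowerEquiv] using z.1.1.2
        · simpa [lowerEquiv, Matrix.trace_fin_two] using z.2.2⟩
      left_inv := fun t => by
        refine Subtype.ext (Prod.ext (Units.ext rfl) (Prod.ext rfl ?_))
        simp
      right_inv := fun z => by
        refine Prod.ext (Prod.ext (Subtype.ext rfl) rfl) (Subtype.ext ?_)
        simp }
  rw [Nat.card_congr e, Nat.card_prod, Nat.card_prod]
  have h1 : Nat.card {c : F // c ^ 2 = 1} = 2 := by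
    have h : (Finset.univ.filter fun c : F => c ^ 2 = 1) = {1, -1} := by
      ext c
      simp [sq_eq_one_iff]
    rw [Nat.card_eq_fintype_card, Fintype.card_subtype, h, Finset.card_pair]
    intro h'
    exact two_ne (F := F) (by linear_combination h')
  have h2 : Nat.card {s : F // s ^ 3 = s} = 3 := by
    have h : (Finset.univ.filter fun c : F => c ^ 3 = c) = {0, 1, -1} := by
      ext c
      simp only [Finset.mem_filter, Finset.mem_univ, true_and, Finset.mem_insert, Finset.mem_singleton]
      constructor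
      · intro hc
        rcases mul_eq_zero.1 (show c * (c ^ 2 - 1) = 0 by linear_combination hc) with e | e
        · exact Or.inl e
        · exact Or.inr (sq_eq_one_iff.1 (sub_eq_zero.1 e))
      · rintro (rfl | rfl | rfl) <;> ring
    rw [Nat.card_eq_fintype_card, Fintype.card_subtype, h, Finset.card_eq_three]
    refine ⟨0, 1, -1, zero_ne_one, (neg_ne_zero.2 one_ne_zero).symm, ?_, rfl⟩
    intro h'
    exact two_ne (F := F) (by linear_combination h')
  rw [h1, h2]
  obtain ⟨m, hm⟩ := Nat.exists_eq_add_of_le (Nat.card_pos (α := F))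
  rw [hm, Nat.add_sub_cancel_left]
  ring

/-! ### Involutions -/

theorem sol_w_iff (hn : n.Prime) (hodd : Odd n) (hF : Nat.card F = 3 ^ n) (Y : SL2) :
    Sol (prH (SL2Inv.w : SL2)) (prH Y) ↔
      ((Y : M2).trace = 0 ∨ (Y : M2) 0 1 - (Y : M2) 1 0 = 0 ∨
        ((Y : M2) 0 0 = (Y : M2) 1 1 ∧ (Y : M2) 0 1 + (Y : M2) 1 0 = 0) ∨
        ((Y : M2).trace ^ 2 = 1 ∧ ((Y : M2) 0 1 - (Y : M2) 1 0) ^ 2 = 1)) := by
  haveI : Fact (Nat.Prime 3) := ⟨Nat.prime_three⟩
  have hxx : prH (SL2Inv.w : SL2) * prH (SL2Inv.w : SL2) = 1 := sq_of_trace SL2Inv.trace_w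
  have hx3 : prH (SL2Inv.w : SL2) ^ 3 ≠ 1 := by
    rw [pow_succ, pow_two, hxx, one_mul]
    exact PSL2Inv.pr_ne_one two_ne SL2Inv.trace_w
  have htr : ((SL2Inv.w * Y : SL2) : M2).trace = (Y : M2) 0 1 - (Y : M2) 1 0 := by
    show ((SL2Inv.w : SL2).1 * (Y : M2)).trace = _
    simp [SL2Inv.w, Matrix.trace_fin_two, Matrix.mul_apply, Matrix.vecMul, dotProduct, Fin.sum_univ_two]
    ring
  have hscY : IsSc Y → ((Y : M2) 0 0 = (Y : M2) 1 1 ∧ (Y : M2) 0 1 + (Y : M2) 1 0 = 0) := fun h => by
    obtain ⟨h1, h2, h3⟩ := isSc_iff.1 h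
    exact ⟨h3, by rw [h1, h2, add_zero]⟩
  have hscwY : IsSc (SL2Inv.w * Y : SL2) → (Y : M2).trace = 0 := fun h => by
    obtain ⟨h1, h2, -⟩ := isSc_iff.1 h
    replace h1 : ((SL2Inv.w : SL2).1 * (Y : M2)) 0 1 = 0 := h1
    replace h2 : ((SL2Inv.w : SL2).1 * (Y : M2)) 1 0 = 0 := h2
    simp [SL2Inv.w, Matrix.mul_apply, Matrix.vecMul, dotProduct, Fin.sum_univ_two] at h1 h2
    rw [Matrix.trace_fin_two, h2, h1, add_zero]
  have hcomm : prH (SL2Inv.w : SL2) * prH Y = prH Y * prH (SL2Inv.w : SL2) →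
      (Y : M2).trace = 0 ∨ ((Y : M2) 0 0 = (Y : M2) 1 1 ∧ (Y : M2) 0 1 + (Y : M2) 1 0 = 0) := fun h => by
    rcases pr_comm h with e | e
    · have e0 := congrFun (congrFun e 0) 0
      have e1 := congrFun (congrFun e 0) 1
      simp [SL2Inv.w, Matrix.mul_apply, Matrix.vecMul, dotProduct, Fin.sum_univ_two] at e0 e1
      exact Or.inr ⟨by linear_combination -e1, by linear_combination -e0⟩
    · have e1 := congrFun (congrFun e 0) 1
      simp [SL2Inv.w, Matrix.mul_apply, Matrix.vecMul, dotProduct, Fin.sum_univ_two] at e1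
      exact Or.inl (by rw [Matrix.trace_fin_two]; linear_combination -e1)
  constructor
  · intro h
    rcases sol_three hn hodd hF h with ⟨S, hx, -⟩ | hD | hT
    · exfalso
      obtain ⟨a, c, hac, hfix⟩ := exists_fixed 3 S
      have h1 := hfix _ hx
      simp [Qf, SL2Inv.w] at h1
      by_cases hc : c = 0
      · subst hc
        exact hac ⟨by simpa using h1, rfl⟩
      · refine not_isSquare_neg_one hodd hF ⟨a / c, ?_⟩
        field_simp
        linear_combination -h1
    · rcases hD with e | ⟨-, e | e⟩ | e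
      · exact (hcomm e).imp_right (Or.inr ∘ Or.inl)
      · exact (trace_of_sq e).imp_right fun s => Or.inr (Or.inl (hscY s))
      · rw [← map_mul] at e
        rcases trace_of_sq e with s | s
        · exact Or.inr (Or.inl (htr ▸ s))
        · exact Or.inl (hscwY s)
      · rw [inv_eq_of_mul_eq_one_right hxx, mul_inv_eq_iff_eq_mul] at e
        exact (hcomm e.symm).imp_right (Or.inr ∘ Or.inl)
    · rcases hT with e | ⟨-, e1, e2⟩ | ⟨e, -, -⟩ | ⟨e, -, -⟩
      · exact (hcomm e).imp_right (Or.inr ∘ Or.inl)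
      · rw [← map_mul] at e2
        rcases trace_of_cube e1 with s0 | s0
        · rcases trace_of_cube e2 with s1 | s1
          · rw [htr] at s1
            exact Or.inr (Or.inr (Or.inr ⟨s0, s1⟩))
          · exact Or.inl (hscwY s1)
        · exact Or.inr (Or.inr (Or.inl (hscY s0)))
      · exact absurd e hx3
      · exact absurd e hx3
  · rintro (h | h | ⟨h0, h1⟩ | ⟨h0, h1⟩)
    · exact sol_of_sq hxx (sq_of_trace h)
    · have h2 := sol_of_sq hxx (sq_of_trace (htr.trans h))
      refine sol_congr (Subgroup.subset_closure (by simp)) ?_ h2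
      rw [show prH Y = (prH (SL2Inv.w : SL2))⁻¹ * prH (SL2Inv.w * Y) by rw [map_mul, inv_mul_cancel_left]]
      exact Subgroup.mul_mem _ (Subgroup.inv_mem _ (Subgroup.subset_closure (by simp)))
        (Subgroup.subset_closure (by simp))
    · refine sol_of_commute ?_
      rw [← map_mul, ← map_mul]
      refine congrArg _ (Subtype.ext ?_)
      show (SL2Inv.w : SL2).1 * (Y : M2) = (Y : M2) * (SL2Inv.w : SL2).1
      apply ext2 <;> simp [SL2Inv.w, Matrix.mul_apply, Matrix.vecMul, dotProduct, Fin.sum_univ_two, h0] <;>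
        first | linear_combination h1 | linear_combination -h1
    · refine sol_of_tetra hxx (cube_of_trace h0) ?_
      rw [← map_mul]
      exact cube_of_trace (by rw [htr, h1])

/-- A form of norm type takes each non-zero value equally often. -/
theorem card_norm_eq (hns : ¬ IsSquare (-1 : F)) {k : F} (hk : k ≠ 0) :
    Nat.card {v : F × F // v.1 ^ 2 + v.2 ^ 2 = k} = Nat.card F + 1 := by
  classical
  haveI := Fintype.ofFinite F
  have hzero : ∀ v : F × F, v.1 ^ 2 + v.2 ^ 2 = 0 ↔ v = 0 := fun v => by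
    refine ⟨fun h => ?_, fun h => by simp [h]⟩
    by_cases h2 : v.2 = 0
    · rw [h2] at h
      exact Prod.ext (by simpa using h) h2
    · refine absurd ⟨v.1 / v.2, ?_⟩ hns
      field_simp
      linear_combination -h
  have hsame : ∀ k : F, k ≠ 0 → Nat.card {v : F × F // v.1 ^ 2 + v.2 ^ 2 = k} =
      Nat.card {v : F × F // v.1 ^ 2 + v.2 ^ 2 = 1} := by
    intro k hk
    have hodd : Fintype.card F % 2 = 1 :=
      FiniteField.odd_card_of_char_ne_two fun h => hns (FiniteField.isSquare_of_char_two h _)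
    obtain ⟨a, b, hab⟩ := FiniteField.exists_root_sum_quadratic (f := (Polynomial.X ^ 2 : Polynomial F))
      (g := Polynomial.X ^ 2 - Polynomial.C k) (Polynomial.degree_X_pow 2)
      (Polynomial.degree_X_pow_sub_C (by norm_num) k) hodd
    simp only [Polynomial.eval_pow, Polynomial.eval_sub, Polynomial.eval_X, Polynomial.eval_C] at hab
    refine (Nat.card_congr (
      { toFun := fun v => ⟨(a * v.1.1 - b * v.1.2, b * v.1.1 + a * v.1.2), by
          linear_combination (a ^ 2 + b ^ 2) * v.2 + hab⟩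
        invFun := fun v => ⟨((a * v.1.1 + b * v.1.2) / k, (a * v.1.2 - b * v.1.1) / k), by
          have := v.2
          field_simp
          linear_combination (a ^ 2 + b ^ 2) * this + k * hab⟩
        left_inv := fun v => by
          refine Subtype.ext (Prod.ext ?_ ?_)
          · field_simp
            linear_combination v.1.1 * hab
          · field_simp
            linear_combination v.1.2 * hab
        right_inv := fun v => by
          refine Subtype.ext (Prod.ext ?_ ?_)
          · field_simp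
            linear_combination v.1.1 * hab
          · field_simp
            linear_combination v.1.2 * hab } :
      {v : F × F // v.1 ^ 2 + v.2 ^ 2 = 1} ≃ {v : F × F // v.1 ^ 2 + v.2 ^ 2 = k})).symm
  rw [hsame k hk]
  have h := Nat.card_congr (Equiv.sigmaFiberEquiv fun v : F × F => v.1 ^ 2 + v.2 ^ 2)
  rw [Nat.card_sigma, Nat.card_prod, ← Finset.add_sum_erase _ _ (Finset.mem_univ (0 : F)),
    Finset.sum_congr rfl fun k hk => hsame k (Finset.ne_of_mem_erase hk), Finset.sum_const,
    Finset.card_erase_of_mem (Finset.mem_univ _), Finset.card_univ, smul_eq_mul,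
    show Nat.card {v : F × F // v.1 ^ 2 + v.2 ^ 2 = (0 : F)} = 1 from
      (Nat.card_congr (Equiv.subtypeEquivRight hzero)).trans Nat.card_unique,
    ← Nat.card_eq_fintype_card] at h
  obtain ⟨m, hm⟩ := Nat.exists_eq_add_of_le (Finite.one_lt_card (α := F))
  rw [hm, show Nat.succ 1 + m - 1 = 1 + m by omega] at h
  rw [hm]
  refine Nat.eq_of_mul_eq_mul_left (show 0 < 1 + m by omega) ?_
  linarith

theorem two_mul_card_sol_w (hn : n.Prime) (hodd : Odd n) (hF : Nat.card F = 3 ^ n) :
    2 * Nat.card {y : P // Sol (prH (SL2Inv.w : SL2)) y} = 2 * (Nat.card F * (Nat.card F + 1)) := by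
  classical
  haveI := Fintype.ofFinite F
  have hns := not_isSquare_neg_one hodd hF
  have h3 := three_eq (F := F)
  rw [two_mul_card_sol hF (sol_w_iff hn hodd hF)]
  let A : F × F → Prop := fun w => w.1 = 0 ∨ w.2 = 0 ∨ (w.1 ^ 2 = 1 ∧ w.2 ^ 2 = 1)
  let e : {Y : SL2 // ((Y : M2).trace = 0 ∨ (Y : M2) 0 1 - (Y : M2) 1 0 = 0 ∨
        ((Y : M2) 0 0 = (Y : M2) 1 1 ∧ (Y : M2) 0 1 + (Y : M2) 1 0 = 0) ∨
        ((Y : M2).trace ^ 2 = 1 ∧ ((Y : M2) 0 1 - (Y : M2) 1 0) ^ 2 = 1))} ≃
      (Σ w : F × F, {v : F × F // v.1 ^ 2 + v.2 ^ 2 = w.1 ^ 2 + w.2 ^ 2 - 1 ∧ (A w ∨ v = 0)}) :=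
    { toFun := fun Y => ⟨((Y.1 : M2).trace, (Y.1 : M2) 0 1 - (Y.1 : M2) 1 0),
        ⟨((Y.1 : M2) 0 0 - (Y.1 : M2) 1 1, (Y.1 : M2) 0 1 + (Y.1 : M2) 1 0), by
          have hd := det_one Y.1
          refine ⟨?_, ?_⟩
          · show _ = _
            rw [Matrix.trace_fin_two]
            linear_combination -hd + (-((Y.1 : M2) 0 0 * (Y.1 : M2) 1 1) + (Y.1 : M2) 0 1 * (Y.1 : M2) 1 0) * h3
          · rcases Y.2 with h | h | ⟨h, h'⟩ | h
            · exact Or.inl (Or.inl h)
            · exact Or.inl (Or.inr (Or.inl h))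
            · exact Or.inr (Prod.ext (sub_eq_zero.2 h) h')
            · exact Or.inl (Or.inr (Or.inr h))⟩⟩
      invFun := fun z => ⟨⟨!![-(z.1.1 + z.2.1.1), -(z.1.2 + z.2.1.2); z.1.2 - z.2.1.2, z.2.1.1 - z.1.1], by
          rw [Matrix.det_fin_two_of]
          linear_combination -z.2.2.1⟩, by
        obtain ⟨⟨s, u⟩, ⟨t, v⟩, hq, h⟩ := z
        dsimp only
        simp only [Matrix.trace_fin_two]
        rcases h with (rfl | rfl | ⟨hs, hu⟩) | h
        · left; simp; try linear_combination (0 : F)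
        · right; left; simp; try linear_combination (0 : F)
        · right; right; right
          constructor
          · show (![-(s + t), -(u + v)] 0 + ![u - v, t - s] 1) ^ 2 = (1 : F)
            simp only [Matrix.cons_val_zero, Matrix.cons_val_one]
            linear_combination hs + s ^ 2 * h3
          · show (![-(s + t), -(u + v)] 1 - ![u - v, t - s] 0) ^ 2 = (1 : F)
            simp only [Matrix.cons_val_zero, Matrix.cons_val_one]
            linear_combination hu + u ^ 2 * h3
        · right; right; left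
          obtain ⟨rfl, rfl⟩ := Prod.mk.injEq _ _ _ _ |>.mp h
          simp⟩
      left_inv := fun Y => by
        refine Subtype.ext (Subtype.ext (ext2 ?_ ?_ ?_ ?_)) <;> simp [Matrix.trace_fin_two]
        · linear_combination -(Y.1 : M2) 0 0 * h3
        · linear_combination -(Y.1 : M2) 0 1 * h3
        · linear_combination -(Y.1 : M2) 1 0 * h3
        · linear_combination -(Y.1 : M2) 1 1 * h3
      right_inv := fun z => by
        obtain ⟨⟨s, u⟩, ⟨t, v⟩, hq⟩ := z
        refine Sigma.subtype_ext (Prod.ext ?_ ?_) (Prod.ext ?_ ?_) <;> simp [Matrix.trace_fin_two]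
        · linear_combination -s * h3
        · linear_combination -u * h3
        · linear_combination -t * h3
        · linear_combination -v * h3 }
  rw [Nat.card_congr e, Nat.card_sigma]
  let B : Finset (F × F) := Finset.univ.filter fun w => A w ∧ w.1 ^ 2 + w.2 ^ 2 ≠ 1
  let C : Finset (F × F) := Finset.univ.filter fun w => w.1 ^ 2 + w.2 ^ 2 = 1
  have hfib : ∀ w : F × F, Nat.card {v : F × F // v.1 ^ 2 + v.2 ^ 2 = w.1 ^ 2 + w.2 ^ 2 - 1 ∧ (A w ∨ v = 0)} =
      (if w ∈ C then 1 else 0) + (if w ∈ B then Nat.card F + 1 else 0) := by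
    intro w
    by_cases hw : w.1 ^ 2 + w.2 ^ 2 = 1
    · rw [if_pos (by simp [C, hw]), if_neg (by simp [B, hw]), add_zero]
      refine @Nat.card_unique _ ⟨⟨0, by simp [hw], Or.inr rfl⟩⟩ ⟨fun a b => Subtype.ext ?_⟩
      have hz : ∀ v : F × F, v.1 ^ 2 + v.2 ^ 2 = 0 → v = 0 := fun v hv => by
        by_cases h2 : v.2 = 0
        · rw [h2] at hv
          exact Prod.ext (by simpa using hv) h2
        · refine absurd ⟨v.1 / v.2, ?_⟩ hns
          field_simp
          linear_combination -hv
      rw [hz a.1 (by rw [a.2.1, hw, sub_self]), hz b.1 (by rw [b.2.1, hw, sub_self])]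
    rw [if_neg (by simp [C, hw]), zero_add]
    by_cases hA : A w
    · rw [if_pos (by simp [B, hA, hw]), ← card_norm_eq hns (sub_ne_zero.2 hw)]
      exact Nat.card_congr (Equiv.subtypeEquivRight fun v => ⟨fun h => h.1, fun h => ⟨h, Or.inl hA⟩⟩)
    · rw [if_neg (by simp [B, hA])]
      have : IsEmpty {v : F × F // v.1 ^ 2 + v.2 ^ 2 = w.1 ^ 2 + w.2 ^ 2 - 1 ∧ (A w ∨ v = 0)} :=
        ⟨fun v => hw (by
          have h := v.2.1
          rw [v.2.2.resolve_left hA] at h
          simp at h
          linear_combination -h)⟩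
      exact Nat.card_of_isEmpty
  rw [Finset.sum_congr rfl fun w _ => hfib w, Finset.sum_add_distrib, ← Finset.sum_filter, ← Finset.sum_filter,
    Finset.sum_const, smul_eq_mul]
  have hC : C.card = Nat.card F + 1 := by
    rw [← card_norm_eq hns one_ne_zero, Nat.card_eq_fintype_card, Fintype.card_subtype]
  have hB : B.card + 1 = 2 * Nat.card F := by
    have hB' : B = ((({1, -1} : Finset F))ᶜ.image fun u => ((0 : F), u)) ∪
        ((({0, 1, -1} : Finset F))ᶜ.image fun s => (s, (0 : F))) ∪ (({1, -1} : Finset F) ×ˢ {1, -1}) := by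
      ext ⟨s, u⟩
      simp only [B, A, Finset.mem_filter, Finset.mem_univ, true_and, Finset.mem_union, Finset.mem_image,
        Finset.mem_compl, Finset.mem_insert, Finset.mem_singleton, Finset.mem_product, Prod.mk.injEq]
      have h01 : (0 : F) ^ 2 ≠ 1 := by simp
      constructor
      · rintro ⟨rfl | rfl | ⟨hs, hu⟩, hne⟩
        · left; left
          refine ⟨u, fun h => hne (by rcases h with rfl | rfl <;> simp), rfl, rfl⟩
        · by_cases hs0 : s = 0
          · left; left
            subst hs0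
            exact ⟨0, by simp, rfl, rfl⟩
          left; right
          exact ⟨s, fun h => hne (by rcases h with rfl | rfl | rfl <;> simp at hs0 ⊢), rfl, rfl⟩
        · right
          exact ⟨sq_eq_one_iff.1 hs, sq_eq_one_iff.1 hu⟩
      · rintro ((⟨u', hu', rfl, rfl⟩ | ⟨s', hs', rfl, rfl⟩) | ⟨hs, hu⟩)
        · refine ⟨Or.inl rfl, fun h => hu' (sq_eq_one_iff.1 ?_)⟩
          simpa using h
        · refine ⟨Or.inr (Or.inl rfl), fun h => hs' (Or.inr (sq_eq_one_iff.1 ?_))⟩
          simpa using h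
        · have hs2 : s ^ 2 = 1 := sq_eq_one_iff.2 hs
          have hu2 : u ^ 2 = 1 := sq_eq_one_iff.2 hu
          refine ⟨Or.inr (Or.inr ⟨hs2, hu2⟩), fun h => one_ne_zero (α := F) ?_⟩
          linear_combination h - hs2 - hu2
    have hne : (1 : F) ≠ -1 := fun h => two_ne (F := F) (by linear_combination h)
    have hd1 : ({1, -1} : Finset F).card = 2 := Finset.card_pair hne
    have hd2 : ({0, 1, -1} : Finset F).card = 3 :=
      Finset.card_eq_three.2 ⟨0, 1, -1, zero_ne_one, (neg_ne_zero.2 one_ne_zero).symm, hne, rfl⟩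
    rw [hB', Finset.card_union_of_disjoint, Finset.card_union_of_disjoint,
      Finset.card_image_of_injective _ (Prod.mk_right_injective 0),
      Finset.card_image_of_injective _ (Prod.mk_left_injective 0), Finset.card_product,
      Finset.card_compl, Finset.card_compl, hd1, hd2, ← Nat.card_eq_fintype_card]
    · have : 3 ≤ Nat.card F := by rw [hF]; exact Nat.le_self_pow hn.ne_zero 3
      omega
    · rw [Finset.disjoint_left]
      intro z hz hz'
      simp only [Finset.mem_image, Finset.mem_compl, Finset.mem_insert, Finset.mem_singleton] at hz hz'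
      obtain ⟨u, hu, rfl⟩ := hz
      obtain ⟨s, hs, h⟩ := hz'
      exact hs (Or.inl (Prod.mk.injEq _ _ _ _ |>.mp h).1)
    · rw [Finset.disjoint_left]
      intro z hz hz'
      simp only [Finset.mem_union, Finset.mem_image, Finset.mem_compl, Finset.mem_insert, Finset.mem_singleton,
        Finset.mem_product] at hz hz'
      rcases hz with ⟨u, -, rfl⟩ | ⟨s, -, rfl⟩
      · rcases hz'.1 with h | h <;> simp at h
      · rcases hz'.2 with h | h <;> simp at h
  rw [Finset.sum_const, smul_eq_mul, mul_one, show (Finset.univ.filter fun w => w ∈ C) = C by simp, hC,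
    show (Finset.univ.filter fun w => w ∈ B) = B by simp]
  rw [show 2 * (Nat.card F * (Nat.card F + 1)) = (Nat.card F + 1) + B.card * (Nat.card F + 1) by
    rw [show B.card * (Nat.card F + 1) = (2 * Nat.card F - 1) * (Nat.card F + 1) by rw [← hB, Nat.add_sub_cancel]]
    obtain ⟨m, hm⟩ := Nat.exists_eq_add_of_le (Nat.card_pos (α := F))
    rw [hm, show 2 * (Nat.succ 0 + m) - 1 = 2 * m + 1 by omega]
    ring]

end Cfsg.Agent.PSLSol
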