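/-
Solubilizers of semisimple elements of PSL_2(3^n).
-/
import Cfsg.Agent.Lib.PSLSol.Three

set_option autoImplicit false
set_option linter.style.haveILetI false
set_option linter.unusedSectionVars false

namespace Cfsg.Agent.PSLSol

open Matrix PStable Dickson

variable {F : Type*} [Field F] [Finite F] [CharP F 3] {n : ℕ}

local notation "SL2" => Matrix.SpecialLinearGroup (Fin 2) F
local notation "M2" => Matrix (Fin 2) (Fin 2) F
local notation "P" => Matrix.ProjectiveSpecialLinearGroup (Fin 2) F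
local notation "prH" => PSL2Inv.pr (F := F)

theorem cube_ne {x : P} (hn : n.Prime) (hF : Nat.card F = 3 ^ n) (h1 : x ≠ 1)
    (hd : orderOf x ∣ Nat.card F + 1 ∨ orderOf x ∣ Nat.card F - 1) : x ^ 3 ≠ 1 := fun e => by
  rcases (Nat.dvd_prime Nat.prime_three).1 (orderOf_dvd_of_pow_eq_one e) with h | h
  · exact h1 (orderOf_eq_one_iff.1 h)
  · have h3 : 3 ∣ Nat.card F := hF ▸ dvd_pow_self 3 hn.ne_zero
    have hq : 0 < Nat.card F := Nat.card_pos
    rw [h] at hd
    omega

theorem sq_ne {x : P} (h1 : x ≠ 1) (h2 : orderOf x ≠ 2) : x * x ≠ 1 := fun e => by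
  rcases (Nat.dvd_prime Nat.prime_two).1 (orderOf_dvd_of_pow_eq_one ((pow_two x).trans e)) with h | h
  · exact h1 (orderOf_eq_one_iff.1 h)
  · exact h2 h

theorem not_dvd_both {x : P} (hq : Nat.card F % 2 = 1) (hxx : x * x ≠ 1)
    (hp : orderOf x ∣ Nat.card F + 1) (hm : orderOf x ∣ Nat.card F - 1) : False := by
  refine hxx ?_
  rw [← pow_two]
  refine orderOf_dvd_iff_pow_eq_one.1 ?_
  have h := Nat.dvd_sub hp hm
  rwa [show Nat.card F + 1 - (Nat.card F - 1) = 2 by omega] at h

theorem card_sol_nonsplit (hn : n.Prime) (hodd : Odd n) (hF : Nat.card F = 3 ^ n) {x : P}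
    (h1 : x ≠ 1) (h2 : orderOf x ≠ 2) (hd : orderOf x ∣ Nat.card F + 1) :
    Nat.card {y : P // Sol x y} = Nat.card F + 1 := by
  haveI : Fact (Nat.Prime 3) := ⟨Nat.prime_three⟩
  have hq := odd_card hF
  have hxx := sq_ne h1 h2
  have hx3 := cube_ne hn hF h1 (Or.inl hd)
  obtain ⟨D, k, hk, ⟨e⟩, hD, hin, hout⟩ := torus_dihedral' 3 hx3
  rw [two_card_center hF] at hk
  have hxD : x ∈ D := hin x (by rw [mul_inv_cancel_right]; exact Subgroup.mem_zpowers x)
  have hk' : 2 * k = Nat.card F + 1 := by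
    refine hk.resolve_right fun hk' => ?_
    have hh : orderOf x ∣ k := by
      have h3 : orderOf (e ⟨x, hxD⟩) = orderOf x := (MulEquiv.orderOf_eq e _).trans (Subgroup.orderOf_mk x hxD)
      rcases orderOf_dihedral (e ⟨x, hxD⟩) with h | h
      · rw [← map_mul] at h
        exact absurd (congrArg Subtype.val (e.map_eq_one_iff.1 h)) hxx
      · rwa [h3] at h
    exact not_dvd_both hq hxx hd (hk' ▸ dvd_mul_of_dvd_right hh _)
  rw [← hk', ← hD]
  refine Nat.card_congr (Equiv.subtypeEquivRight fun y => ⟨fun h => ?_, fun h => sol_of_conj (hout y h)⟩)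
  have hmem : y * x * y⁻¹ = x ∨ y * x * y⁻¹ = x⁻¹ → y ∈ D := fun h => hin y (by
    rcases h with h | h <;> rw [h]
    · exact Subgroup.mem_zpowers x
    · exact Subgroup.inv_mem _ (Subgroup.mem_zpowers x))
  have hcomm : x * y = y * x → y ∈ D := fun h => hmem (Or.inl (by rw [← h, mul_inv_cancel_right]))
  rcases sol_three hn hodd hF h with hB | hR | hT
  · exfalso
    have h3 := orderOf_dvd_of_inBorel 3 hB
    refine not_dvd_both hq hxx hd (Nat.Coprime.dvd_of_dvd_mul_left ?_ h3)
    refine Nat.Coprime.coprime_dvd_left hd ?_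
    simp
  · rcases hR with h | ⟨h, -⟩ | h
    · exact hcomm h
    · exact absurd h hxx
    · exact hmem (Or.inr h)
  · rcases hT with h | ⟨h, -, -⟩ | ⟨h, -, -⟩ | ⟨h, -, -⟩
    · exact hcomm h
    · exact absurd h hxx
    · exact absurd h hx3
    · exact absurd h hx3

/-- A diagonal matrix. -/
def diag (l : Fˣ) : SL2 := ⟨!![(l : F), 0; 0, (l : F)⁻¹], by simp [Matrix.det_fin_two]⟩

theorem exists_diag (hn : n.Prime) (hF : Nat.card F = 3 ^ n) {x : P} (h1 : x ≠ 1)
    (h2 : orderOf x ≠ 2) (hd : orderOf x ∣ Nat.card F - 1) :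
    ∃ (φ : P ≃* P) (l : Fˣ), (l : F) * l ≠ 1 ∧ (l : F) * l ≠ -1 ∧ φ x = prH (diag l) := by
  classical
  haveI : Fact (Nat.Prime 3) := ⟨Nat.prime_three⟩
  have hq := odd_card hF
  have hxx := sq_ne h1 h2
  have hx3 := cube_ne hn hF h1 (Or.inr hd)
  obtain ⟨X, rfl⟩ := PSL2Inv.pr_surjective x
  obtain ⟨hsc, hτ⟩ := semis_of_pow 3 hx3
  have hne : ¬ SL2Tori.NoEigen (X : M2) := fun hne => by
    refine not_dvd_both hq hxx ?_ hd
    refine (orderOf_map_dvd prH X).trans ?_
    have hX : X ∈ SL2Tori.torus X := by simp [SL2Tori.torus, Subgroup.mem_centralizer_singleton_iff]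
    have := Subgroup.orderOf_dvd_natCard _ hX
    rwa [SL2Tori.card_torus hne] at this
  rw [SL2Tori.noEigen_iff] at hne
  push Not at hne
  obtain ⟨a, ha⟩ := hne
  rw [X.2] at ha
  have ha0 : a ≠ 0 := fun h => by rw [h] at ha; simp at ha
  have ht : (X : M2).trace = a + a⁻¹ := by field_simp; linear_combination -ha
  have hne1 : a * a ≠ 1 := fun h => hτ (by
    rw [ht, inv_eq_of_mul_eq_one_right h]; linear_combination 4 * h)
  have hne2 : a * a ≠ -1 := fun h => hxx (sq_of_trace (by
    rw [ht]; field_simp; linear_combination h))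
  have hdet := det_one X
  rw [Matrix.trace_fin_two] at ht
  obtain ⟨g, hg⟩ : ∃ g : GL (Fin 2) F, (X : M2) * (g : M2) = (g : M2) * (diag (Units.mk0 a ha0) : SL2).1 := by
    have hinv : a * a⁻¹ = 1 := mul_inv_cancel₀ ha0
    have hdiff : a - a⁻¹ ≠ 0 := fun h => hne1 (by linear_combination a * h + hinv)
    by_cases hc : (X : M2) 1 0 = 0
    · have hcases : (X : M2) 0 0 = a ∨ (X : M2) 1 1 = a := by
        rcases mul_eq_zero.1 (show ((X : M2) 0 0 - a) * ((X : M2) 1 1 - a) = 0 by
          linear_combination hdet + (X : M2) 0 1 * hc - a * ht - hinv) with h | h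
        · exact Or.inl (sub_eq_zero.1 h)
        · exact Or.inr (sub_eq_zero.1 h)
      rcases hcases with h | h
      · have h' : (X : M2) 1 1 = a⁻¹ := by linear_combination ht - h
        refine ⟨Matrix.GeneralLinearGroup.mkOfDetNeZero !![1, (X : M2) 0 1; 0, a⁻¹ - a]
          (by simp [Matrix.det_fin_two, sub_eq_zero]; exact fun e => hdiff (by rw [e, sub_self])), ?_⟩
        apply ext2 <;> simp [diag, Matrix.mul_apply, Fin.sum_univ_two, hc, h, h'] <;> ring
      · have h' : (X : M2) 0 0 = a⁻¹ := by linear_combination ht - h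
        refine ⟨Matrix.GeneralLinearGroup.mkOfDetNeZero !![(X : M2) 0 1, 1; a - a⁻¹, 0]
          (by
            rw [Matrix.det_fin_two_of, mul_zero, one_mul, zero_sub, neg_ne_zero]
            exact hdiff), ?_⟩
        apply ext2 <;> simp [diag, Matrix.mul_apply, Fin.sum_univ_two, hc, h, h'] <;> ring
    · refine ⟨Matrix.GeneralLinearGroup.mkOfDetNeZero
        !![a - (X : M2) 1 1, a⁻¹ - (X : M2) 1 1; (X : M2) 1 0, (X : M2) 1 0]
        (by
          rw [Matrix.det_fin_two_of]
          rw [show (a - (X : M2) 1 1) * (X : M2) 1 0 - (a⁻¹ - (X : M2) 1 1) * (X : M2) 1 0 =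
            (a - a⁻¹) * (X : M2) 1 0 by ring]
          exact mul_ne_zero hdiff hc), ?_⟩
      apply ext2 <;> simp [diag, Matrix.mul_apply, Fin.sum_univ_two]
      · linear_combination -hdet + a * ht + hinv
      · linear_combination -hdet + a⁻¹ * ht + hinv
      · ring
      · ring
  obtain ⟨φ, hφ⟩ := exists_aut' g
  refine ⟨φ, Units.mk0 a ha0, hne1, hne2, ?_⟩
  rw [hφ]
  refine congrArg _ (Subtype.ext ?_)
  rw [conjGL_val, mul_assoc, hg, ← mul_assoc, ← Units.val_mul, inv_mul_cancel, Units.val_one, one_mul]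

theorem sol_diag_iff (hn : n.Prime) (hodd : Odd n) (hF : Nat.card F = 3 ^ n) {l : Fˣ}
    (h1 : (l : F) * l ≠ 1) (h2 : (l : F) * l ≠ -1) (hxx : prH (diag l) * prH (diag l) ≠ 1)
    (hx3 : prH (diag l) ^ 3 ≠ 1) (Y : SL2) :
    Sol (prH (diag l)) (prH Y) ↔
      (Y : M2) 1 0 = 0 ∨ ((Y : M2) 0 1 = 0 ∨ ((Y : M2) 0 0 = 0 ∧ (Y : M2) 1 1 = 0)) := by
  haveI : Fact (Nat.Prime 3) := ⟨Nat.prime_three⟩
  have hl := l.ne_zero
  have key : ∀ u : F, u * ((l : F) * l - 1) = 0 → u = 0 := fun u h =>
    (mul_eq_zero.1 h).resolve_right (sub_ne_zero.2 h1)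
  have key' : ∀ u : F, u * ((l : F) * l + 1) = 0 → u = 0 := fun u h =>
    (mul_eq_zero.1 h).resolve_right fun e => h2 (eq_neg_of_add_eq_zero_left e)
  have hcomm : prH (diag l) * prH Y = prH Y * prH (diag l) →
      (Y : M2) 0 1 = 0 ∨ ((Y : M2) 0 0 = 0 ∧ (Y : M2) 1 1 = 0) := fun h => by
    rcases pr_comm h with e | e
    · have e1 := congrFun (congrFun e 0) 1
      simp [diag, Matrix.mul_apply, Matrix.vecMul, dotProduct, Fin.sum_univ_two] at e1
      field_simp at e1
      exact Or.inl (key _ (by linear_combination e1))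
    · have e0 := congrFun (congrFun e 0) 0
      have e1 := congrFun (congrFun e 1) 1
      simp [diag, Matrix.mul_apply, Matrix.vecMul, dotProduct, Fin.sum_univ_two] at e0 e1
      field_simp at e0 e1
      refine Or.inr ⟨(mul_eq_zero.1 (show (2 : F) * (Y : M2) 0 0 = 0 by linear_combination e0)).resolve_left two_ne,
        (mul_eq_zero.1 (show (2 : F) * (Y : M2) 1 1 = 0 by linear_combination e1)).resolve_left two_ne⟩
  constructor
  · intro h
    rcases sol_three hn hodd hF h with ⟨S, hx, hy⟩ | hR | hT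
    · obtain ⟨a, c, hac, hfix⟩ := exists_fixed 3 S
      have e1 := hfix _ hx
      have e2 := hfix _ hy
      simp [Qf, diag] at e1
      rcases e1 with e | e | e
      · exfalso
        rw [sub_eq_zero] at e
        exact h1 (by nth_rw 1 [← e]; exact inv_mul_cancel₀ hl)
      · subst e
        have hc : c ≠ 0 := fun e => hac ⟨rfl, e⟩
        simp [Qf] at e2
        exact Or.inr (Or.inl (e2.resolve_right hc))
      · subst e
        have ha : a ≠ 0 := fun e => hac ⟨e, rfl⟩
        simp [Qf] at e2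
        exact Or.inl (e2.resolve_right ha)
    · rcases hR with e | ⟨e, -⟩ | e
      · exact Or.inr (hcomm e)
      · exact absurd e hxx
      · refine Or.inr (Or.inr ?_)
        rcases pr_inverts e with e | e
        · have e0 := congrFun (congrFun e 0) 0
          have e1 := congrFun (congrFun e 1) 1
          simp [diag, Matrix.adjugate_fin_two, Matrix.mul_apply, Matrix.vecMul, dotProduct, Fin.sum_univ_two] at e0 e1
          field_simp at e0 e1
          exact ⟨key _ (by linear_combination e0), key _ (by linear_combination -e1)⟩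
        · have e0 := congrFun (congrFun e 0) 0
          have e1 := congrFun (congrFun e 1) 1
          simp [diag, Matrix.adjugate_fin_two, Matrix.mul_apply, Matrix.vecMul, dotProduct, Fin.sum_univ_two] at e0 e1
          field_simp at e0 e1
          exact ⟨key' _ (by linear_combination e0), key' _ (by linear_combination e1)⟩
    · rcases hT with e | ⟨e, -, -⟩ | ⟨e, -, -⟩ | ⟨e, -, -⟩
      · exact Or.inr (hcomm e)
      · exact absurd e hxx
      · exact absurd e hx3
      · exact absurd e hx3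
  · rintro (h | h | ⟨h0, h1'⟩)
    · exact sol_upper 3 (by simp [diag]) h
    · exact sol_lower 3 (by simp [diag]) h
    · refine sol_of_conj (Or.inr ?_)
      rw [mul_inv_eq_iff_eq_mul, ← map_mul, ← map_inv, ← map_mul]
      refine congrArg _ (Subtype.ext ?_)
      show (Y : M2) * (diag l : SL2).1 = Matrix.adjugate (diag l : SL2).1 * (Y : M2)
      apply ext2 <;> simp [diag, Matrix.adjugate_fin_two, Matrix.mul_apply, Matrix.vecMul, dotProduct,
        Fin.sum_univ_two, h0, h1'] <;> ring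

theorem two_mul_card_sol_split (hn : n.Prime) (hodd : Odd n) (hF : Nat.card F = 3 ^ n) {x : P}
    (h1 : x ≠ 1) (h2 : orderOf x ≠ 2) (hd : orderOf x ∣ Nat.card F - 1) :
    2 * Nat.card {y : P // Sol x y} = 2 * (Nat.card F * (Nat.card F - 1)) := by
  classical
  obtain ⟨φ, l, hl1, hl2, hφ⟩ := exists_diag hn hF h1 h2 hd
  rw [← card_sol_map φ x, hφ]
  have hxx : prH (diag l) * prH (diag l) ≠ 1 := by
    rw [← hφ, ← map_mul, ne_eq, φ.map_eq_one_iff]
    exact sq_ne h1 h2
  have hx3 : prH (diag l) ^ 3 ≠ 1 := by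
    rw [← hφ, ← map_pow, ne_eq, φ.map_eq_one_iff]
    exact cube_ne hn hF h1 (Or.inr hd)
  rw [two_mul_card_sol hF (sol_diag_iff hn hodd hF hl1 hl2 hxx hx3), card_upper_or]
  have hequiv : ∀ t : Fˣ × F × F,
      (((lowerEquiv.symm t).1 : M2) 0 1 = 0 ∨ (((lowerEquiv.symm t).1 : M2) 0 0 = 0 ∧ ((lowerEquiv.symm t).1 : M2) 1 1 = 0))
        ↔ t.2.2 = t.2.1⁻¹ := fun t => by
    obtain ⟨c, a, d⟩ := t
    simp only [lowerEquiv, Equiv.coe_fn_symm_mk]
    simp [Units.ne_zero, sub_eq_zero]
    constructor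
    · rintro (h | ⟨rfl, rfl⟩)
      · exact (inv_eq_of_mul_eq_one_right h).symm
      · simp
    · rintro rfl
      by_cases ha : a = 0
      · exact Or.inr ⟨ha, by simp [ha]⟩
      · exact Or.inl (mul_inv_cancel₀ ha)
  rw [Nat.card_congr ((Equiv.subtypeEquivRight hequiv).trans
    { toFun := fun t => (t.1.1, t.1.2.1)
      invFun := fun z => ⟨(z.1, z.2, z.2⁻¹), rfl⟩
      left_inv := fun t => Subtype.ext (Prod.ext rfl (Prod.ext rfl t.2.symm))
      right_inv := fun z => rfl }), Nat.card_prod, Nat.card_units]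
  ring

/-- Involutions. -/
theorem two_mul_card_sol_involution (hn : n.Prime) (hodd : Odd n) (hF : Nat.card F = 3 ^ n) {x : P}
    (hx : orderOf x = 2) :
    2 * Nat.card {y : P // Sol x y} = 2 * (Nat.card F * (Nat.card F + 1)) := by
  obtain ⟨g, hg⟩ := isConj_iff.1 (PSL2Inv.isConj_pr_w (two_ne (F := F))
    (x := x) (by
      have h := pow_orderOf_eq_one x
      rwa [hx, pow_two] at h)
    (fun e => by rw [e, orderOf_one] at hx; omega))
  rw [← two_mul_card_sol_w hn hodd hF, ← hg, show g * prH (SL2Inv.w : SL2) * g⁻¹ = MulAut.conj g (prH (SL2Inv.w : SL2)) from rfl,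
    card_sol_map]

/-- Elements of order three. -/
theorem two_mul_card_sol_three (hn : n.Prime) (hodd : Odd n) (hF : Nat.card F = 3 ^ n) {x : P}
    (hx : orderOf x = 3) :
    2 * Nat.card {y : P // Sol x y} = Nat.card F * (Nat.card F + 5) := by
  haveI : Fact (Nat.Prime 3) := ⟨Nat.prime_three⟩
  obtain ⟨X, rfl⟩ := PSL2Inv.pr_surjective x
  have hsc : ¬ IsSc X := fun h => by
    rw [pr_eq_one.2 h, orderOf_one] at hx; omega
  have ht : (X : M2).trace ^ 2 = 4 := by
    rcases trace_of_cube (hx ▸ pow_orderOf_eq_one (prH X)) with h | h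
    · linear_combination h - three_eq (F := F)
    · exact absurd h hsc
  obtain ⟨s, hs, -, hs3, hs1⟩ := exists_sign (p := 3) hsc ht
  obtain ⟨g, hg⟩ := exists_conj_upp hs3 hs1
  obtain ⟨φ, hφ⟩ := exists_aut' g
  have h1 : φ (prH X) = prH (upp 1) := by
    have h2 : prH X = prH (s * X) := by rw [map_mul, pr_eq_one.2 hs, one_mul]
    rw [h2, hφ]
    refine congrArg _ (Subtype.ext ?_)
    rw [conjGL_val, mul_assoc, hg, ← mul_assoc, ← Units.val_mul, inv_mul_cancel, Units.val_one, one_mul]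
  rw [← card_sol_map φ (prH X), h1, two_mul_card_sol_upp hn hodd hF]

end Cfsg.Agent.PSLSol
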